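import Groth.Prelude.Def_Frob
import Groth.Agent.MorLib.UnivHomeo
import Mathlib.AlgebraicGeometry.Morphisms.Finite
import Mathlib.FieldTheory.PurelyInseparable.Basic

/-!
# Absolute and relative Frobenius are integral universal homeomorphisms
-/

open CategoryTheory CategoryTheory.Limits AlgebraicGeometry

set_option linter.style.haveILetI false
set_option backward.isDefEq.respectTransparency false

namespace Groth.Agent.FrobSchLib

universe u

variable (p : ℕ) [Fact p.Prime]

theorem expChar_residueField {X : Scheme.{u}} [FrobSch.IsCharP X p] (x : X) : ExpChar (X.residueField x) p := by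
  have h : ((p : ℕ) : X.residueField x) = 0 := by
    have := congrArg ((X.presheaf.germ ⊤ x trivial ≫ X.residue x).hom)
      (FrobSch.IsCharP.natCast_eq_zero (X := X) (p := p))
    rwa [map_natCast, map_zero] at this
  have : CharP (X.residueField x) p := (CharP.charP_iff_prime_eq_zero Fact.out).2 h
  exact ExpChar.prime Fact.out

theorem isPurelyInseparable_frob {X : Scheme.{u}} [FrobSch.IsCharP X p] (x : X) :
    ((FrobSch.frob X p).residueFieldMap x).hom.IsPurelyInseparable := by
  haveI := expChar_residueField p (X := X) (FrobSch.frob X p x)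
  letI := ((FrobSch.frob X p).residueFieldMap x).hom.toAlgebra
  show IsPurelyInseparable (X.residueField (FrobSch.frob X p x)) (X.residueField x)
  refine (isPurelyInseparable_iff_pow_mem _ p).2 fun z => ⟨1, ?_⟩
  obtain ⟨t, rfl⟩ := X.residue_surjective x z
  obtain ⟨U, hxU, s, rfl⟩ := X.presheaf.exists_germ_eq (x := x) t
  refine ⟨X.residue _ (X.presheaf.germ U (FrobSch.frob X p x) hxU s), ?_⟩
  show (FrobSch.frob X p).residueFieldMap x (X.residue _ _) = _
  have h1 : (FrobSch.frob X p).stalkMap x (X.presheaf.germ U (FrobSch.frob X p x) hxU s) =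
      X.presheaf.germ U x hxU (s ^ p) :=
    Scheme.Hom.germ_stalkMap_apply (FrobSch.frob X p) U x hxU s
  rw [← CommRingCat.comp_apply, Scheme.residue_residueFieldMap, CommRingCat.comp_apply, h1, pow_one,
    map_pow, map_pow]

theorem isIntegralHom_frob (X : Scheme.{u}) [FrobSch.IsCharP X p] : IsIntegralHom (FrobSch.frob X p) := by
  haveI : IsAffineHom (FrobSch.frob X p) := ⟨fun U hU => hU⟩
  refine ⟨fun U _ => fun s => ?_⟩
  let s' : Γ(X, U) := s
  refine ⟨Polynomial.X ^ p - Polynomial.C (s' : Γ(X, U)), Polynomial.monic_X_pow_sub_C _ (Fact.out : p.Prime).ne_zero, ?_⟩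
  rw [Polynomial.eval₂_sub, Polynomial.eval₂_X_pow, Polynomial.eval₂_C]
  exact sub_eq_zero.2 rfl

theorem universallyInjective_frob (X : Scheme.{u}) [FrobSch.IsCharP X p] :
    UniversallyInjective (FrobSch.frob X p) :=
  ((tfae_universallyInjective (FrobSch.frob X p)).out 0 2 rfl rfl).mpr
    ⟨fun _ _ h => h, fun x => isPurelyInseparable_frob p x⟩

theorem isUnivHomeo_frob (X : Scheme.{u}) [FrobSch.IsCharP X p] : FlatMor.IsUnivHomeo (FrobSch.frob X p) := by
  have := isIntegralHom_frob p X
  have := universallyInjective_frob p X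
  have : Surjective (FrobSch.frob X p) := ⟨fun x => ⟨x, rfl⟩⟩
  exact MorLib.isUnivHomeo_of_universallyClosed _

variable {X S : Scheme.{u}} [FrobSch.IsCharP S p] (f : X ⟶ S)

theorem isIntegralHom_relFrob : IsIntegralHom (FrobSch.relFrob f p) := by
  haveI : FrobSch.IsCharP X p := FrobSch.IsCharP.of_hom f p
  haveI := isIntegralHom_frob p S
  haveI := isIntegralHom_frob p X
  haveI : IsIntegralHom (FrobSch.relFrob f p ≫ pullback.fst f (FrobSch.frob S p)) := by
    rw [FrobSch.relFrob_fst]; infer_instance
  exact MorphismProperty.of_postcomp (W := @IsIntegralHom) (W' := @IsSeparated) _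
    (pullback.fst f (FrobSch.frob S p)) inferInstance inferInstance

theorem universallyInjective_relFrob : UniversallyInjective (FrobSch.relFrob f p) := by
  haveI : FrobSch.IsCharP X p := FrobSch.IsCharP.of_hom f p
  refine MorLib.universallyInjective_of_comp _ (pullback.fst f (FrobSch.frob S p)) ?_
  rw [FrobSch.relFrob_fst]
  exact universallyInjective_frob p X

theorem isUnivHomeo_relFrob : FlatMor.IsUnivHomeo (FrobSch.relFrob f p) := by
  haveI : FrobSch.IsCharP X p := FrobSch.IsCharP.of_hom f p
  have := isIntegralHom_relFrob p f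
  have := universallyInjective_relFrob p f
  haveI := universallyInjective_frob p S
  haveI : UniversallyInjective (pullback.fst f (FrobSch.frob S p)) :=
    MorphismProperty.pullback_fst _ _ inferInstance
  have : Surjective (FrobSch.relFrob f p) := ⟨fun z => ⟨pullback.fst f (FrobSch.frob S p) z,
    (pullback.fst f (FrobSch.frob S p)).injective (by
      rw [← Scheme.Hom.comp_apply, FrobSch.relFrob_fst]; rfl)⟩⟩
  exact MorLib.isUnivHomeo_of_universallyClosed _

theorem isPurelyInseparable_relFrob (x : X) :
    ((FrobSch.relFrob f p).residueFieldMap x).hom.IsPurelyInseparable :=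
  (((tfae_universallyInjective (FrobSch.relFrob f p)).out 0 2 rfl rfl).mp (universallyInjective_relFrob p f)).2 x

theorem isFinite_relFrob [LocallyOfFiniteType f] : IsFinite (FrobSch.relFrob f p) := by
  haveI : LocallyOfFiniteType (FrobSch.relFrob f p ≫ pullback.snd f (FrobSch.frob S p)) := by
    rw [FrobSch.relFrob_snd]; infer_instance
  haveI := locallyOfFiniteType_of_comp (FrobSch.relFrob f p) (pullback.snd f (FrobSch.frob S p))
  exact (IsFinite.iff_isIntegralHom_and_locallyOfFiniteType _).2 ⟨isIntegralHom_relFrob p f, inferInstance⟩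

end Groth.Agent.FrobSchLib
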